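import Groth.Agent.ProEtLib.LimSec.Van
import Groth.Agent.EtModLib.PLC.LiftConst

/-! Sections of pulled back sheaves over limits of quasi-compact quasi-separated objects. -/

universe u

open CategoryTheory CategoryTheory.Limits AlgebraicGeometry Opposite MorphismProperty

noncomputable section

set_option backward.isDefEq.respectTransparency false
set_option backward.isDefEq.respectTransparency.types false

namespace Groth.Agent.ProEtLib.LimSec

open EtModLib

variable {X : Scheme.{u}} {I : Type u} [SmallCategory I] [IsCofiltered I] {D : I ⥤ X.ProEt}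
  [∀ (i j : I) (a : i ⟶ j), IsAffineHom (D.map a).left]

instance isAffineHom_sch {i j : I} (a : i ⟶ j) : IsAffineHom ((sch D).map a) :=
  inferInstanceAs (IsAffineHom (D.map a).left)

theorem isAffineHom_pbFst {W U V : X.ProEt} (w : W ⟶ U) (v : V ⟶ U) [IsAffineHom v.left] :
    IsAffineHom (pbFst w v).left :=
  MorphismProperty.pullback_fst (P := @IsAffineHom) w.left v.left inferInstance

theorem isAffineHom_pbSys {i : I} {W : X.ProEt} (w : W ⟶ D.obj i) (a b : CategoryTheory.Over i) (h : a ⟶ b) :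
    IsAffineHom ((pbSys (D := D) w).map h).left := by
  have : IsAffineHom (pbFst w (D.map b.hom)).left := isAffineHom_pbFst _ _
  have : IsAffineHom (((pbSys (D := D) w).map h).left ≫ (pbFst w (D.map b.hom)).left) := by
    have e : ((pbSys (D := D) w).map h).left ≫ (pbFst w (D.map b.hom)).left = (pbFst w (D.map a.hom)).left :=
      pullback.lift_fst _ _ _
    rw [e]
    exact isAffineHom_pbFst _ _
  exact IsAffineHom.of_comp _ (pbFst w (D.map b.hom)).left

theorem compactSpace_pbSys {i : I} {W : X.ProEt} [CompactSpace W.left] (w : W ⟶ D.obj i) (a : CategoryTheory.Over i) :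
    CompactSpace ((pbSys (D := D) w).obj a).left := by
  have : IsAffineHom (pbFst w (D.map a.hom)).left := isAffineHom_pbFst _ _
  exact QuasiCompact.compactSpace_of_compactSpace (pbFst w (D.map a.hom)).left

variable [∀ i, CompactSpace (D.obj i).left] {c : Cone D} (hc : IsLimit (schCone c))

instance compactSpace_sch (i : I) : CompactSpace ((sch D).obj i) := ‹∀ i, CompactSpace (D.obj i).left› i

variable {A : ProEtS.AbP X} (hA : FromEt A)
include hc hA

/-- a section vanishing on the limit vanishes at a stage -/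
theorem exists_kill {i : I} (d : A.obj.obj (op (D.obj i))) (h : A.obj.map (c.π.app i).op d = 0) :
    ∃ (j : I) (a : j ⟶ i), A.obj.map (D.map a).op d = 0 := by
  obtain ⟨j, a, ha⟩ := exists_map_eq_top (sch D) (schCone c) hc (i := i) ⟨van d, isOpen_van hA d⟩
    (eq_top_iff.2 fun z _ => by
      have : z ∈ van (A.obj.map (c.π.app i).op d) := ⟨c.pt, 𝟙 _, z, rfl, by rw [h, map_zero]⟩
      rwa [van_map] at this)
  exact ⟨j, a, map_eq_zero hA _ d fun z => ha.ge (trivial : z ∈ (⊤ : ((sch D).obj j).Opens))⟩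

/-- near each point of the limit a section comes from an etale object over a stage -/
theorem exists_local_lift (i : I) (s : A.obj.obj (op c.pt)) (z : c.pt.left) :
    ∃ (j : I) (_ : j ⟶ i) (P : X.ProEt) (p : P ⟶ D.obj j) (x : A.obj.obj (op P)),
      IsAffine P.left ∧ Etale p.left ∧ (∃ u, p.left.base u = (c.π.app j).left.base z) ∧
      ∀ (T : X.ProEt) (g : T ⟶ c.pt) (e : T ⟶ P), e ≫ p = g ≫ c.π.app j →
        A.obj.map e.op x = A.obj.map g.op s := by
  obtain ⟨R, hR, hR'⟩ := hA.germ c.pt s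
  obtain ⟨T', f, v, hf, hfz⟩ := exists_hit hR z
  obtain ⟨V, b, x, hx⟩ := hR' f hf
  let tV : (ProEtS.eps X).obj V ⟶ ProEtS.topP X := MorphismProperty.Over.homMk V.hom (Category.comp_id _)
  let tD : D.obj i ⟶ ProEtS.topP X := MorphismProperty.Over.homMk (D.obj i).hom (Category.comp_id _)
  let Q₀ := pbObj tV tD
  let l : T' ⟶ Q₀ := pbLift b (f ≫ c.π.app i) (MorphismProperty.Over.Hom.ext
    ((MorphismProperty.Over.w b).trans (MorphismProperty.Over.w (f ≫ c.π.app i)).symm))
  obtain ⟨O, hO, hqO, -⟩ :=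
    exists_isAffineOpen_mem_and_subset (show l.left.base v ∈ (⊤ : Q₀.left.Opens) from trivial)
  let W := opObj Q₀ O
  let w : W ⟶ D.obj i := opHom Q₀ O ≫ pbSnd tV tD
  let a : W ⟶ (ProEtS.eps X).obj V := opHom Q₀ O ≫ pbFst tV tD
  have : IsAffine W.left := hO
  have hw : Etale w.left := by
    have : Etale V.hom := V.prop
    have : Etale (pullback.snd tV.left tD.left) :=
      MorphismProperty.pullback_snd (P := @Etale) tV.left tD.left (inferInstanceAs (Etale V.hom))
    exact inferInstanceAs (Etale (O.ι ≫ pullback.snd tV.left tD.left))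
  let TW := pbObj w (c.π.app i)
  let d : A.obj.obj (op TW) := A.obj.map (pbFst w (c.π.app i) ≫ a).op x - A.obj.map (pbSnd w (c.π.app i)).op s
  let e₀ : opObj T' (l.left ⁻¹ᵁ O) ⟶ W := opMap l _ _ le_rfl
  have he₀ : e₀ ≫ opHom Q₀ O = opHom T' (l.left ⁻¹ᵁ O) ≫ l := opMap_comp _ _ _ _
  let m : opObj T' (l.left ⁻¹ᵁ O) ⟶ TW := pbLift e₀ (opHom T' (l.left ⁻¹ᵁ O) ≫ f) (by
    simp only [w, reassoc_of% he₀, l, pbLift_snd, Category.assoc])
  have hm : A.obj.map m.op d = 0 := by
    rw [map_sub, mapA, mapA, sub_eq_zero]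
    have e1 : m ≫ pbFst w (c.π.app i) ≫ a = opHom T' (l.left ⁻¹ᵁ O) ≫ b := by
      simp only [m, a, pbLift_fst_assoc, reassoc_of% he₀, l, pbLift_fst]
    rw [e1, show m ≫ pbSnd w (c.π.app i) = _ from pbLift_snd _ _ _, ← mapA, hx, mapA]
    rfl
  let z' : TW.left := m.left.base ⟨v, hqO⟩
  have hz' : z' ∈ van d := ⟨_, m, ⟨v, hqO⟩, rfl, hm⟩
  obtain ⟨E, hE, hzE, hEv⟩ := exists_isAffineOpen_mem_and_subset
    (show z' ∈ (⟨van d, isOpen_van hA d⟩ : TW.left.Opens) from hz')
  obtain ⟨hl⟩ := nonempty_isLimit_pbCone w hc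
  haveI : ∀ (a b : CategoryTheory.Over i) (h : a ⟶ b), IsAffineHom ((pbSys (D := D) w).map h).left :=
    isAffineHom_pbSys w
  obtain ⟨j, U, -, hUE⟩ := exists_preimage_eq (sch (pbSys (D := D) w)) (schCone (pbCone c w)) hl E hE.isCompact
  have hjz : ((pbCone c w).π.app j).left.base z' ∈ U := hUE.ge hzE
  obtain ⟨A', hA', hzA', hA'U⟩ := exists_isAffineOpen_mem_and_subset hjz
  let P := opObj ((pbSys (D := D) w).obj j) A'
  let p : P ⟶ D.obj j.left := opHom ((pbSys (D := D) w).obj j) A' ≫ pbSnd w (D.map j.hom)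
  let toV : P ⟶ (ProEtS.eps X).obj V := opHom ((pbSys (D := D) w).obj j) A' ≫ pbFst w (D.map j.hom) ≫ a
  refine ⟨j.left, j.hom, P, p, A.obj.map toV.op x, hA', ?_, ⟨⟨_, hzA'⟩, ?_⟩, fun T g e he => ?_⟩
  · have : Etale (pullback.snd w.left (D.map j.hom).left) :=
      MorphismProperty.pullback_snd (P := @Etale) _ _ hw
    exact inferInstanceAs (Etale (A'.ι ≫ pullback.snd w.left (D.map j.hom).left))
  · have h1 : (pbCone c w).π.app j ≫ pbSnd w (D.map j.hom) = pbSnd w (c.π.app i) ≫ c.π.app j.left :=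
      MorphismProperty.Over.Hom.ext (pullback.lift_snd _ _ _)
    refine (congrArg (fun f : TW ⟶ D.obj j.left => f.left.base z') h1).trans ?_
    refine congrArg (c.π.app j.left).left.base ?_
    refine (congrArg (fun f : opObj T' (l.left ⁻¹ᵁ O) ⟶ c.pt => f.left.base ⟨v, hqO⟩)
      (pbLift_snd _ _ _ : m ≫ pbSnd w (c.π.app i) = opHom T' (l.left ⁻¹ᵁ O) ≫ f)).trans hfz
  · let e₁ : T ⟶ (pbSys (D := D) w).obj j := e ≫ opHom ((pbSys (D := D) w).obj j) A'
    have he₁ : e₁ ≫ pbSnd w (D.map j.hom) = g ≫ c.π.app j.left := (Category.assoc _ _ _).trans he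
    let m' : T ⟶ TW := pbLift (e₁ ≫ pbFst w (D.map j.hom)) g (by
      rw [Category.assoc, pb_condition, reassoc_of% he₁, c.w])
    have hm' : m' ≫ (pbCone c w).π.app j = e₁ := by
      have h1 : (pbCone c w).π.app j ≫ pbFst w (D.map j.hom) = pbFst w (c.π.app i) := MorphismProperty.Over.Hom.ext (pullback.lift_fst _ _ _)
      have h2 : (pbCone c w).π.app j ≫ pbSnd w (D.map j.hom) = pbSnd w (c.π.app i) ≫ c.π.app j.left :=
      MorphismProperty.Over.Hom.ext (pullback.lift_snd _ _ _)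
      refine pb_hom_ext ?_ ?_
      · exact (Category.assoc _ _ _).trans ((congrArg (m' ≫ ·) h1).trans (pbLift_fst _ _ _))
      · exact (Category.assoc _ _ _).trans ((congrArg (m' ≫ ·) h2).trans
          ((Category.assoc _ _ _).symm.trans ((congrArg (· ≫ c.π.app j.left) (pbLift_snd _ _ _)).trans he₁.symm)))
    have h0 : A.obj.map m'.op d = 0 := map_eq_zero hA m' d fun t => hEv (hUE.le (by
      change ((pbCone c w).π.app j).left.base (m'.left.base t) ∈ U
      exact hA'U ((congrArg (fun f : T ⟶ (pbSys (D := D) w).obj j => f.left.base t) hm').symm ▸ (e.left.base t).2)))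
    rw [map_sub, mapA, mapA, sub_eq_zero] at h0
    rw [mapA]
    refine Eq.trans ?_ (h0.trans (congrArg (fun f : T ⟶ c.pt => A.obj.map f.op s) (pbLift_snd _ _ _)))
    refine congrArg (fun f : T ⟶ (ProEtS.eps X).obj V => A.obj.map f.op x) ?_
    simp only [toV, m', e₁, pbLift_fst_assoc, Category.assoc]

/-- sections over the limit come from stages -/
theorem exists_lift [∀ i, QuasiSeparatedSpace (D.obj i).left] (s : A.obj.obj (op c.pt)) :
    ∃ (j : I) (x : A.obj.obj (op (D.obj j))), A.obj.map (c.π.app j).op x = s := by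
  classical
  obtain ⟨i⟩ := (IsCofiltered.nonempty : Nonempty I)
  choose jz az P p x hP hp hu' hx using fun z => exists_local_lift hc hA i s z
  choose u hu using hu'
  have : CompactSpace c.pt.left := Scheme.compactSpace_of_isLimit (sch D) (schCone c) hc
  obtain ⟨t, ht⟩ := isCompact_univ.elim_finite_subcover
    (fun z => (c.π.app (jz z)).left.base ⁻¹' Set.range (p z).left.base)
    (fun z => (have := hp z; (p z).left.isOpenMap.isOpen_range).preimage (c.π.app (jz z)).left.continuous)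
    fun z _ => Set.mem_iUnion.2 ⟨z, u z, hu z⟩
  let n := Fintype.card t
  let ζ : Fin n → c.pt.left := fun k => ((Fintype.equivFin t).symm k).1
  obtain ⟨j₁, a₁, h₁⟩ := exists_common (fun k => jz (ζ k)) fun k => az (ζ k)
  choose b hb using h₁
  let P₁ : Fin n → X.ProEt := fun k => pbObj (p (ζ k)) (D.map (b k))
  let p₁ : ∀ k, P₁ k ⟶ D.obj j₁ := fun k => pbSnd (p (ζ k)) (D.map (b k))
  let x₁ : ∀ k, A.obj.obj (op (P₁ k)) := fun k => A.obj.map (pbFst (p (ζ k)) (D.map (b k))).op (x (ζ k))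
  have hp₁ : ∀ k, Etale (p₁ k).left := fun k =>
    MorphismProperty.pullback_snd (P := @Etale) _ _ (hp (ζ k))
  have hP₁ : ∀ k, IsAffine (P₁ k).left := fun k => by
    have : IsAffine (P (ζ k)).left := hP (ζ k)
    have : IsAffineHom (pbFst (p (ζ k)) (D.map (b k))).left := isAffineHom_pbFst _ _
    exact isAffine_of_isAffineHom (pbFst (p (ζ k)) (D.map (b k))).left
  have hprop : ∀ k (T : X.ProEt) (g : T ⟶ c.pt) (e : T ⟶ P₁ k), e ≫ p₁ k = g ≫ c.π.app j₁ →
      A.obj.map e.op (x₁ k) = A.obj.map g.op s := fun k T g e he => by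
    rw [mapA]
    refine hx (ζ k) T g _ ?_
    rw [Category.assoc, pb_condition, reassoc_of% he, c.w]
  -- covering at a stage
  obtain ⟨j₂, a₂, ha₂⟩ := exists_map_eq_top (sch D) (schCone c) hc (i := j₁)
    (⨆ k, (⟨Set.range (p₁ k).left.base, (have := hp₁ k; (p₁ k).left.isOpenMap.isOpen_range)⟩ : (D.obj j₁).left.Opens))
    (eq_top_iff.2 fun z _ => by
      obtain ⟨z₀, hz₀, u₀, hu₀⟩ := Set.mem_iUnion₂.1 (ht (Set.mem_univ z))
      let k := Fintype.equivFin t ⟨z₀, hz₀⟩
      have hk : ζ k = z₀ := congrArg Subtype.val ((Fintype.equivFin t).symm_apply_apply _)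
      refine TopologicalSpace.Opens.mem_iSup.2 ⟨k, ?_⟩
      obtain ⟨u₀, hu₀⟩ : (c.π.app (jz (ζ k))).left.base z ∈ Set.range (p (ζ k)).left.base :=
        hk.symm ▸ (show (c.π.app (jz z₀)).left.base z ∈ Set.range (p z₀).left.base from ⟨u₀, hu₀⟩)
      obtain ⟨q, -, hq⟩ := exists_pbObj_point (w := p (ζ k)) (v := D.map (b k)) u₀ ((c.π.app j₁).left.base z)
        (hu₀.trans (congrArg (fun f : c.pt ⟶ _ => f.left.base z) (c.w (b k))).symm)
      exact ⟨q, hq⟩)
  -- agreement at a stage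
  have hagree : ∀ q : Fin (n * n), ∃ (j : I) (e : j ⟶ j₁),
      ∀ (Z : X.ProEt) (f : Z ⟶ P₁ (finProdFinEquiv.symm q).1) (f' : Z ⟶ P₁ (finProdFinEquiv.symm q).2)
        (z : Z ⟶ D.obj j), f ≫ p₁ _ = z ≫ D.map e → f' ≫ p₁ _ = z ≫ D.map e →
        A.obj.map f.op (x₁ _) = A.obj.map f'.op (x₁ _) := fun q => by
    obtain ⟨⟨k, l⟩, rfl⟩ := finProdFinEquiv.surjective q
    rw [Equiv.symm_apply_apply]
    let w : pbObj (p₁ k) (p₁ l) ⟶ D.obj j₁ := pbFst (p₁ k) (p₁ l) ≫ p₁ k
    have := hP₁ k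
    have := hP₁ l
    have : QuasiCompact (p₁ l).left := inferInstance
    have : CompactSpace (pbObj (p₁ k) (p₁ l)).left := by
      have : QuasiCompact (pbFst (p₁ k) (p₁ l)).left :=
        inferInstanceAs (QuasiCompact (pullback.fst (p₁ k).left (p₁ l).left))
      exact QuasiCompact.compactSpace_of_compactSpace (pbFst (p₁ k) (p₁ l)).left
    haveI : ∀ (a b : CategoryTheory.Over j₁) (h : a ⟶ b), IsAffineHom ((pbSys (D := D) w).map h).left :=
      isAffineHom_pbSys w
    haveI : ∀ a : CategoryTheory.Over j₁, CompactSpace ((pbSys (D := D) w).obj a).left := compactSpace_pbSys w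
    obtain ⟨hw⟩ := nonempty_isLimit_pbCone w hc
    let i₀ : CategoryTheory.Over j₁ := CategoryTheory.Over.mk (𝟙 j₁)
    let d : A.obj.obj (op ((pbSys (D := D) w).obj i₀)) :=
      A.obj.map (pbFst w (D.map (𝟙 j₁)) ≫ pbFst (p₁ k) (p₁ l)).op (x₁ k) -
        A.obj.map (pbFst w (D.map (𝟙 j₁)) ≫ pbSnd (p₁ k) (p₁ l)).op (x₁ l)
    have hd : A.obj.map ((pbCone c w).π.app i₀).op d = 0 := by
      have h1 : (pbCone c w).π.app i₀ ≫ pbFst w (D.map (𝟙 j₁)) = pbFst w (c.π.app j₁) := MorphismProperty.Over.Hom.ext (pullback.lift_fst _ _ _)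
      rw [map_sub, sub_eq_zero]
      refine (mapA _ _ _).trans (Eq.trans ?_ (mapA _ _ _).symm)
      refine (congrArg (fun f : (pbCone c w).pt ⟶ P₁ k => A.obj.map f.op (x₁ k))
        ((Category.assoc _ _ _).symm.trans (congrArg (· ≫ pbFst (p₁ k) (p₁ l)) h1))).trans ?_
      refine Eq.trans ?_ (congrArg (fun f : (pbCone c w).pt ⟶ P₁ l => A.obj.map f.op (x₁ l))
        ((Category.assoc _ _ _).symm.trans (congrArg (· ≫ pbSnd (p₁ k) (p₁ l)) h1))).symm
      refine (hprop k (pbObj w (c.π.app j₁)) (pbSnd w (c.π.app j₁)) _ ?_).trans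
        (hprop l (pbObj w (c.π.app j₁)) (pbSnd w (c.π.app j₁)) _ ?_).symm
      · rw [Category.assoc]; exact pb_condition w _
      · rw [Category.assoc, ← pb_condition (p₁ k) (p₁ l)]; exact pb_condition w _
    obtain ⟨B, g, hg⟩ := exists_kill hw hA d hd
    refine ⟨B.left, B.hom, fun Z f f' z hf hf' => ?_⟩
    let q₂ : Z ⟶ pbObj (p₁ k) (p₁ l) := pbLift f f' (hf.trans hf'.symm)
    let T : Z ⟶ pbObj w (D.map B.hom) := pbLift q₂ z (by
      simp only [w, q₂, pbLift_fst_assoc]; exact hf)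
    let γ : pbObj w (D.map B.hom) ⟶ pbObj w (D.map (𝟙 j₁)) := pbLift (pbFst _ _) (pbSnd _ _ ≫ D.map g.left) (by
      rw [pb_condition, Category.assoc, ← Functor.map_comp]
      exact congrArg (fun h => pbSnd w (D.map B.hom) ≫ D.map h) (CategoryTheory.Over.w g).symm)
    have hg' : A.obj.map γ.op (A.obj.map (pbFst w (D.map (𝟙 j₁)) ≫ pbFst (p₁ k) (p₁ l)).op (x₁ k) -
        A.obj.map (pbFst w (D.map (𝟙 j₁)) ≫ pbSnd (p₁ k) (p₁ l)).op (x₁ l)) = 0 := hg
    have h0 := congrArg (A.obj.map T.op) hg'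
    rw [map_zero, map_sub, map_sub, sub_eq_zero] at h0
    have e3 : (T ≫ γ) ≫ pbFst w (D.map (𝟙 j₁)) ≫ pbFst (p₁ k) (p₁ l) = f := by simp [T, γ, q₂]
    have e4 : (T ≫ γ) ≫ pbFst w (D.map (𝟙 j₁)) ≫ pbSnd (p₁ k) (p₁ l) = f' := by simp [T, γ, q₂]
    rw [← e3, ← e4]
    exact (mapA _ _ _).symm.trans ((mapA _ _ _).symm.trans (h0.trans ((mapA _ _ _).trans (mapA _ _ _))))
  choose jq eq_ hagree using hagree
  obtain ⟨j₃, a₃, h₃⟩ := exists_common (i := j₁) (Fin.cons j₂ jq) (Fin.cases a₂ eq_)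
  let Q : Fin n → X.ProEt := fun k => pbObj (p₁ k) (D.map a₃)
  let r : ∀ k, Q k ⟶ D.obj j₃ := fun k => pbSnd (p₁ k) (D.map a₃)
  let up : ∀ k, Q k ⟶ P₁ k := fun k => pbFst (p₁ k) (D.map a₃)
  have hQ : Sieve.generate (Presieve.ofArrows Q r) ∈ Scheme.ProEt.topology X (D.obj j₃) := by
    refine mem_topology_of_etale Q r (fun k => MorphismProperty.pullback_snd (P := @Etale) _ _ (hp₁ k))
      (fun y => ?_) fun k => Sieve.le_generate _ _ _ (Presieve.ofArrows.mk (f := r) k)
    obtain ⟨e, he⟩ := h₃ 0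
    have hy := ha₂.ge (show (D.map e).left.base y ∈ (⊤ : ((sch D).obj j₂).Opens) from trivial)
    obtain ⟨k, q, hq⟩ := TopologicalSpace.Opens.mem_iSup.1 hy
    have hy' : (D.map a₃).left.base y = (p₁ k).left.base q := by
      rw [← he, Functor.map_comp]; exact hq.symm
    obtain ⟨w, -, hw⟩ := exists_pbObj_point (w := p₁ k) (v := D.map a₃) q y hy'.symm
    exact ⟨k, w, hw⟩
  have hsh : Presieve.IsSheafFor (A.obj ⋙ CategoryTheory.forget AddCommGrpCat.{u + 1})
      (Presieve.ofArrows Q r) := by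
    rw [Presieve.isSheafFor_iff_generate]
    exact (isSheaf_iff_isSheaf_of_type _ _).1
      ((sheafCompose (Scheme.ProEt.topology X) (CategoryTheory.forget AddCommGrpCat.{u + 1})).obj A).property _ hQ
  obtain ⟨y, hy, -⟩ := (Presieve.isSheafFor_arrows_iff _ _).1 hsh (fun k => A.obj.map (up k).op (x₁ k))
    fun k l Z f f' hff' => by
      change A.obj.map f.op (A.obj.map (up k).op (x₁ k)) = A.obj.map f'.op (A.obj.map (up l).op (x₁ l))
      refine (mapA _ _ _).trans (Eq.trans ?_ (mapA _ _ _).symm)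
      obtain ⟨e, he⟩ := h₃ (Fin.succ (finProdFinEquiv (k, l)))
      rw [Fin.cases_succ] at he
      have h := hagree (finProdFinEquiv (k, l))
      rw [Equiv.symm_apply_apply] at h
      refine h Z (f ≫ up k) (f' ≫ up l) (f ≫ r k ≫ D.map e) ?_ ?_
      · simp only [up, r, Category.assoc, pb_condition, ← Functor.map_comp]
        rw [he]
      · simp only [up, r, Category.assoc, pb_condition, ← Functor.map_comp]
        rw [he]
        exact (reassoc_of% hff'.symm) (D.map a₃)
  refine ⟨j₃, y, eq_of_cover ((Scheme.ProEt.topology X).pullback_stable (c.π.app j₃) hQ) ?_⟩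
  rintro T g ⟨Z, e, _, ⟨k⟩, he⟩
  refine (mapA _ _ _).trans ?_
  refine (congrArg (fun f : T ⟶ D.obj j₃ => A.obj.map f.op y) he.symm).trans ?_
  refine (mapA _ _ _).symm.trans ((congrArg _ (hy k)).trans ((mapA _ _ _).trans ?_))
  refine hprop k T g _ ?_
  rw [Category.assoc, pb_condition, reassoc_of% he, c.w]

theorem nonempty_isColimit [∀ i, QuasiSeparatedSpace (D.obj i).left] :
    Nonempty (IsColimit (A.obj.mapCocone c.op)) := by
  have : PreservesFilteredColimitsOfSize.{u + 1, u + 1} (forget AddCommGrpCat.{u + 1}) :=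
    AddCommGrpCat.FilteredColimits.forget_preservesFilteredColimits.{u + 1}
  have : PreservesFilteredColimitsOfSize.{u, u} (forget AddCommGrpCat.{u + 1}) :=
    preservesFilteredColimitsOfSize_of_univLE.{u + 1, u + 1} _
  have : ReflectsColimit (D.op ⋙ A.obj) (forget AddCommGrpCat.{u + 1}) :=
    reflectsColimit_of_reflectsIsomorphisms _ _
  refine ⟨isColimitOfReflects (forget AddCommGrpCat.{u + 1}) (Types.FilteredColimit.isColimitOf' _ _ (fun s => ?_)
    fun i x y h => ?_)⟩
  · obtain ⟨j, x, hx⟩ := exists_lift hc hA s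
    exact ⟨op j, x, hx.symm⟩
  · obtain ⟨j, a, ha⟩ := exists_kill hc hA (show A.obj.obj (op (D.obj i.unop)) from x - y) (by
      rw [map_sub]
      exact sub_eq_zero.2 (show A.obj.map (c.π.app i.unop).op x = A.obj.map (c.π.app i.unop).op y from h))
    exact ⟨op j, a.op, show A.obj.map (D.map a).op x = A.obj.map (D.map a).op y from
      sub_eq_zero.1 ((map_sub _ _ _).symm.trans ha)⟩

end Groth.Agent.ProEtLib.LimSec
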