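import Groth.Agent.ProEtLib.EpsVanish
import Groth.Agent.EtModLib.PLC.System
import Groth.Agent.EtModLib.PLC.Locus

/-! The locus where a section of a pulled back sheaf vanishes. -/

universe u

open CategoryTheory CategoryTheory.Limits AlgebraicGeometry Opposite MorphismProperty

noncomputable section

set_option backward.isDefEq.respectTransparency false
set_option backward.isDefEq.respectTransparency.types false

namespace Groth.Agent.ProEtLib.LimSec

open EtModLib SitePullUnit

variable {X : Scheme.{u}}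

theorem mapA {A : ProEtS.AbP X} {T T' U : X.ProEt} (g : T' ⟶ T) (t : T ⟶ U) (x : A.obj.obj (op U)) :
    A.obj.map g.op (A.obj.map t.op x) = A.obj.map (g ≫ t).op x := by
  rw [op_comp, Functor.map_comp]; rfl

theorem eq_of_cover {A : ProEtS.AbP X} {T : X.ProEt} {R : Sieve T} (hR : R ∈ Scheme.ProEt.topology X T)
    {x y : A.obj.obj (op T)} (h : ∀ ⦃T' : X.ProEt⦄ (g : T' ⟶ T), R g → A.obj.map g.op x = A.obj.map g.op y) :
    x = y :=
  (((isSheaf_iff_isSheaf_of_type _ _).1
    ((sheafCompose (Scheme.ProEt.topology X) (CategoryTheory.forget AddCommGrpCat.{u + 1})).obj A).property) _ hR).isSeparatedFor.ext h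

/-- sections are locally etale sections; etale sections vanish only etale locally -/
structure FromEt (A : ProEtS.AbP X) : Prop where
  germ : ∀ (T : X.ProEt) (s : A.obj.obj (op T)), ∃ R ∈ Scheme.ProEt.topology X T, ∀ ⦃T' : X.ProEt⦄ (f : T' ⟶ T), R f →
    ∃ (V : X.Etale) (b : T' ⟶ (ProEtS.eps X).obj V) (x : A.obj.obj (op ((ProEtS.eps X).obj V))),
      A.obj.map b.op x = A.obj.map f.op s
  zero : ∀ (T : X.ProEt) (V : X.Etale) (b : T ⟶ (ProEtS.eps X).obj V) (x : A.obj.obj (op ((ProEtS.eps X).obj V))),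
    A.obj.map b.op x = 0 → ∀ z : T.left, ∃ (W : X.Etale) (c : W ⟶ V) (v : W.left),
      c.left.base v = b.left.base z ∧ A.obj.map ((ProEtS.eps X).map c).op x = 0

theorem fromEt_epsPull [ProEtS.EpsCont X] (F₀ : EtCoh.Ab X) : FromEt ((ProEtS.epsPull X).obj F₀) := by
  have := repFlat_eps (X := X)
  have := isIso_unit_eps (X := X)
  have : IsIso (ProEtS.epsAdj X).unit := NatIso.isIso_of_isIso_app _
  obtain ⟨hff⟩ : Nonempty (ProEtS.epsPull X).FullyFaithful := ⟨(ProEtS.epsAdj X).fullyFaithfulLOfIsIsoUnit⟩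
  haveI := hff.full
  haveI := hff.faithful
  let A : ProEtS.AbP X := (ProEtS.epsPull X).obj F₀
  let F : EtCoh.Ab X := (ProEtS.epsPush X).obj A
  haveI : IsIso ((ProEtS.epsAdj X).counit.app A) :=
    (ProEtS.epsAdj X).isIso_counit_app_iff_mem_essImage.2 ⟨F₀, ⟨Iso.refl A⟩⟩
  let ad := Functor.sheafPullbackConstruction.sheafAdjunctionContinuous (ProEtS.eps X) AddCommGrpCat.{u + 1}
    X.smallEtaleTopology (Scheme.ProEt.topology X)
  let k := ad.counit.app A
  haveI : IsIso k := by
    show IsIso (ad.counit.app A)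
    rw [← Adjunction.leftAdjointUniq_hom_app_counit ad (ProEtS.epsAdj X) A]
    infer_instance
  have tri : ∀ (V : X.Etale) (x : F.obj.obj (op V)),
      k.hom.app (op ((ProEtS.eps X).obj V)) ((conUnit (ProEtS.eps X) (Scheme.ProEt.topology X) F).app (op V) x) = x :=
    fun V x => by
      have h := congrArg (fun f : F ⟶ F => f.hom.app (op V) x) (ad.right_triangle_components A)
      have hu := congrArg (fun q => q.app (op V) x) (unit_con (ProEtS.eps X) (Scheme.ProEt.topology X) F)
      exact (congrArg (k.hom.app (op ((ProEtS.eps X).obj V))) hu).symm.trans h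
  refine ⟨fun T s => ?_, fun T V b x hx z => ?_⟩
  · obtain ⟨R, hR, hR'⟩ := exists_cover_sGerm (ProEtS.eps X) (Scheme.ProEt.topology X) F ((inv k).hom.app (op T) s)
    refine ⟨R, hR, fun T' f hf => ?_⟩
    obtain ⟨V, b, x, hx⟩ := hR' f hf
    refine ⟨V, b, x, ?_⟩
    have hk : k.hom.app (op T) ((inv k).hom.app (op T) s) = s :=
      congrArg (fun f : A ⟶ A => f.hom.app (op T) s) (IsIso.inv_hom_id k)
    have h := congrArg (k.hom.app (op T')) hx
    refine Eq.trans ?_ (h.trans ((NatTrans.naturality_apply k.hom f.op _).trans (congrArg _ hk)))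
    exact ((NatTrans.naturality_apply k.hom b.op _).trans (congrArg _ (tri V x))).symm
  · have hinj : Function.Injective (k.hom.app (op T)) := fun a a' h => by
      have e : ∀ a, (inv k).hom.app (op T) (k.hom.app (op T) a) = a := fun a =>
        congrArg (fun f : (Functor.sheafPullbackConstruction.sheafPullback (ProEtS.eps X) AddCommGrpCat.{u + 1}
          X.smallEtaleTopology (Scheme.ProEt.topology X)).obj F ⟶ _ => f.hom.app (op T) a) (IsIso.hom_inv_id k)
      exact (e a).symm.trans ((congrArg _ h).trans (e a'))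
    have h0 : sGerm (ProEtS.eps X) (Scheme.ProEt.topology X) F b x =
        sGerm (ProEtS.eps X) (Scheme.ProEt.topology X) F b 0 := hinj (by
      refine (NatTrans.naturality_apply k.hom b.op _).trans ((congrArg _ (tri V x)).trans (hx.trans ?_))
      refine Eq.trans ?_ ((NatTrans.naturality_apply k.hom b.op _).trans (congrArg _ (tri V 0))).symm
      exact (map_zero _).symm)
    obtain ⟨W, c, v, hv, hc⟩ := sGerm_agree F b x 0 h0 z
    exact ⟨W, c, v, hv, hc.trans (map_zero _)⟩

/-- the points over which a section vanishes locally -/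
def van {A : ProEtS.AbP X} {Q : X.ProEt} (d : A.obj.obj (op Q)) : Set Q.left :=
  {q | ∃ (T : X.ProEt) (f : T ⟶ Q) (v : T.left), f.left.base v = q ∧ A.obj.map f.op d = 0}

theorem van_map {A : ProEtS.AbP X} {Q Q' : X.ProEt} (g : Q' ⟶ Q) (d : A.obj.obj (op Q)) :
    van (A.obj.map g.op d) = g.left.base ⁻¹' van d := by
  ext q
  constructor
  · rintro ⟨T, f, v, rfl, hf⟩
    exact ⟨T, f ≫ g, v, rfl, (mapA f g d).symm.trans hf⟩
  · rintro ⟨T, f, v, hv, hf⟩
    obtain ⟨z, hz₁, hz₂⟩ := exists_pbObj_point (w := g) (v := f) q v hv.symm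
    refine ⟨pbObj g f, pbFst g f, z, hz₁, ?_⟩
    rw [mapA, pb_condition, ← mapA, hf, map_zero]

variable {A : ProEtS.AbP X} (hA : FromEt A)
include hA

theorem van_germ {V : X.Etale} {P : X.ProEt} (b : P ⟶ (ProEtS.eps X).obj V)
    (x : A.obj.obj (op ((ProEtS.eps X).obj V))) (z : P.left) (hz : z ∈ van (A.obj.map b.op x)) :
    ∃ (W : X.Etale) (c : W ⟶ V) (v : W.left),
      c.left.base v = b.left.base z ∧ A.obj.map ((ProEtS.eps X).map c).op x = 0 := by
  obtain ⟨T, f, v, rfl, hf⟩ := hz
  exact hA.zero T V (f ≫ b) x ((mapA f b x).symm.trans hf) v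

theorem eq_zero_of_van_germ {V : X.Etale} {P : X.ProEt} (b : P ⟶ (ProEtS.eps X).obj V)
    (x : A.obj.obj (op ((ProEtS.eps X).obj V))) (h : ∀ z, z ∈ van (A.obj.map b.op x)) : A.obj.map b.op x = 0 := by
  choose W c v hv hc using fun z => van_germ hA b x z (h z)
  have hE : ∀ z, Etale (pbFst b ((ProEtS.eps X).map (c z))).left := fun z => by
    have : Etale (c z).left := EtFound.etale_left (c z)
    exact inferInstanceAs (Etale (pullback.fst b.left (c z).left))
  refine eq_of_cover (mem_topology_of_etale (fun z => pbObj b ((ProEtS.eps X).map (c z)))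
    (fun z => pbFst b ((ProEtS.eps X).map (c z))) hE (fun z => ?_) fun z => Sieve.le_generate _ _ _ (Presieve.ofArrows.mk
      (f := fun z => pbFst b ((ProEtS.eps X).map (c z))) z)) ?_
  · obtain ⟨w, hw, -⟩ := exists_pbObj_point (w := b) (v := (ProEtS.eps X).map (c z)) z (v z) (hv z).symm
    exact ⟨z, w, hw⟩
  · rintro T g ⟨Z, e, _, ⟨z⟩, rfl⟩
    rw [map_zero, mapA, Category.assoc, pb_condition, ← Category.assoc, ← mapA, hc z, map_zero]

theorem isOpen_van_affine {Q : X.ProEt} [IsAffine Q.left] (d : A.obj.obj (op Q)) : IsOpen (van d) := by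
  obtain ⟨R, hR, hR'⟩ := hA.germ Q d
  obtain ⟨n, P, p, hP, hRp, hcov⟩ := exists_pieces Q hR
  refine isOpen_of_pieces p hcov _ fun k => ?_
  obtain ⟨V, b, x, hx⟩ := hR' (p k) (hRp k)
  rw [← van_map, ← hx, isOpen_iff_forall_mem_open]
  intro z hz
  obtain ⟨W, c, v, hv, hc⟩ := van_germ hA b x z hz
  have := EtFound.etale_left c
  refine ⟨b.left.base ⁻¹' Set.range c.left.base, ?_, c.left.isOpenMap.isOpen_range.preimage b.left.continuous, v, hv⟩
  rintro y ⟨w, hw⟩
  obtain ⟨q, hq, -⟩ := exists_pbObj_point (w := b) (v := (ProEtS.eps X).map c) y w hw.symm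
  exact ⟨_, pbFst b _, q, hq, by rw [mapA, pb_condition, ← mapA, hc, map_zero]⟩

theorem isOpen_van {Q : X.ProEt} (d : A.obj.obj (op Q)) : IsOpen (van d) := by
  rw [isOpen_iff_forall_mem_open]
  intro q hq
  obtain ⟨O, hO, hqO, -⟩ := exists_isAffineOpen_mem_and_subset (show q ∈ (⊤ : Q.left.Opens) from trivial)
  have : IsAffine (opObj Q O).left := hO
  refine ⟨O.ι.base '' van (A.obj.map (opHom Q O).op d), ?_,
    O.ι.isOpenEmbedding.isOpenMap _ (isOpen_van_affine hA _), ⟨q, hqO⟩, ?_, rfl⟩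
  · rw [van_map]; exact Set.image_preimage_subset _ _
  · rw [van_map]; exact hq

/-- a section whose vanishing locus contains the image of a morphism restricts to zero -/
theorem map_eq_zero {T Q : X.ProEt} (f : T ⟶ Q) (d : A.obj.obj (op Q)) (h : ∀ z, f.left.base z ∈ van d) :
    A.obj.map f.op d = 0 := by
  obtain ⟨R, hR, hR'⟩ := hA.germ T (A.obj.map f.op d)
  refine eq_of_cover hR fun T' g hg => ?_
  obtain ⟨V, b, x, hx⟩ := hR' g hg
  rw [map_zero, ← hx]
  refine eq_zero_of_van_germ hA b x fun z => ?_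
  rw [hx, van_map, van_map]
  exact h _

end Groth.Agent.ProEtLib.LimSec
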